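import Mathlib

/-! The universal enveloping algebra as a cocommutative Hopf algebra. -/

set_option autoImplicit false
universe u v

namespace Groth.Agent.Lib.Helper5.RHopf
open scoped TensorProduct
open UniversalEnvelopingAlgebra

attribute [local instance 2000] LieRing.ofAssociativeRing

variable (k : Type u) [CommRing k] (L : Type v) [LieRing L] [LieAlgebra k L]

local notation "𝔘" => UniversalEnvelopingAlgebra k L

/-- induction principle: left multiplication by generators -/
theorem U_induction_left {C : 𝔘 → Prop} (h1 : C 1)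
    (hadd : ∀ a c, C a → C c → C (a + c)) (hsmul : ∀ (r : k) a, C a → C (r • a))
    (hι : ∀ (x : L) w, C w → C (ι k x * w)) : ∀ w, C w := by
  have key : ∀ a : TensorAlgebra k L, ∀ s, C s → C (mkAlgHom k L a * s) := by
    intro a
    induction a using TensorAlgebra.induction with
    | algebraMap r =>
      intro s hs
      rw [AlgHom.commutes, ← Algebra.smul_def]
      exact hsmul r s hs
    | ι x => exact fun s hs => hι x s hs
    | mul a c ha hc =>
      intro s hs
      rw [map_mul, mul_assoc]
      exact ha _ (hc s hs)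
    | add a c ha hc =>
      intro s hs
      rw [map_add, add_mul]
      exact hadd _ _ (ha s hs) (hc s hs)
  intro y
  obtain ⟨a, rfl⟩ := RingCon.mkₐ_surjective (α := k) (UniversalEnvelopingAlgebra.ringCon k L) y
  have := key a 1 h1
  rwa [mul_one] at this

/-- induction principle: right multiplication by generators -/
theorem U_induction_right {C : 𝔘 → Prop} (h1 : C 1)
    (hadd : ∀ a c, C a → C c → C (a + c)) (hsmul : ∀ (r : k) a, C a → C (r • a))
    (hι : ∀ (x : L) w, C w → C (w * ι k x)) : ∀ w, C w := by
  have key : ∀ a : TensorAlgebra k L, ∀ s, C s → C (s * mkAlgHom k L a) := by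
    intro a
    induction a using TensorAlgebra.induction with
    | algebraMap r =>
      intro s hs
      rw [AlgHom.commutes, ← Algebra.commutes, ← Algebra.smul_def]
      exact hsmul r s hs
    | ι x => exact fun s hs => hι x s hs
    | mul a c ha hc =>
      intro s hs
      rw [map_mul, ← mul_assoc]
      exact hc _ (ha s hs)
    | add a c ha hc =>
      intro s hs
      rw [map_add, mul_add]
      exact hadd _ _ (ha s hs) (hc s hs)
  intro y
  obtain ⟨a, rfl⟩ := RingCon.mkₐ_surjective (α := k) (UniversalEnvelopingAlgebra.ringCon k L) y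
  have := key a 1 h1
  rwa [one_mul] at this

/-- `x ↦ x ⊗ 1 + 1 ⊗ x` as a Lie homomorphism -/
noncomputable def comulLie : L →ₗ⁅k⁆ 𝔘 ⊗[k] 𝔘 :=
  { toLinearMap := (TensorProduct.mk k 𝔘 𝔘).flip 1 ∘ₗ (ι k : L →ₗ⁅k⁆ 𝔘).toLinearMap +
      TensorProduct.mk k 𝔘 𝔘 1 ∘ₗ (ι k : L →ₗ⁅k⁆ 𝔘).toLinearMap
    map_lie' := by
      intro x y
      simp only [AddHom.toFun_eq_coe, LinearMap.coe_toAddHom, LinearMap.add_apply,
        LinearMap.comp_apply, LieHom.coe_toLinearMap, LinearMap.flip_apply,
        TensorProduct.mk_apply, LieHom.map_lie, Ring.lie_def, mul_add, add_mul,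
        Algebra.TensorProduct.tmul_mul_tmul, mul_one, one_mul, TensorProduct.sub_tmul,
        TensorProduct.tmul_sub]
      abel }

theorem comulLie_apply (x : L) : comulLie k L x = ι k x ⊗ₜ[k] 1 + 1 ⊗ₜ[k] ι k x := rfl

noncomputable instance instBialgebraU : Bialgebra k 𝔘 :=
  .ofAlgHom (lift k (comulLie k L)) (lift k (0 : L →ₗ⁅k⁆ k))
    (by
      ext x
      simp [comulLie_apply, Algebra.TensorProduct.one_def, TensorProduct.add_tmul,
        TensorProduct.tmul_add]
      abel)
    (by
      apply UniversalEnvelopingAlgebra.hom_ext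
      refine LieHom.ext fun x => ?_
      simp [comulLie_apply])
    (by
      apply UniversalEnvelopingAlgebra.hom_ext
      refine LieHom.ext fun x => ?_
      simp [comulLie_apply])

@[simp] theorem comul_ι (x : L) :
    Coalgebra.comul (R := k) (ι k x) = ι k x ⊗ₜ[k] 1 + 1 ⊗ₜ[k] ι k x :=
  lift_ι_apply k (comulLie k L) x

@[simp] theorem counit_ι (x : L) : Coalgebra.counit (R := k) (ι k x) = 0 :=
  lift_ι_apply k (0 : L →ₗ⁅k⁆ k) x

instance instIsCocommU : Coalgebra.IsCocomm k 𝔘 where
  comm_comp_comul := by
    have h : (Algebra.TensorProduct.comm k 𝔘 𝔘).toAlgHom.comp (Bialgebra.comulAlgHom k 𝔘) =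
        Bialgebra.comulAlgHom k 𝔘 := by
      apply UniversalEnvelopingAlgebra.hom_ext
      refine LieHom.ext fun x => ?_
      show (Algebra.TensorProduct.comm k 𝔘 𝔘) (Coalgebra.comul (ι k x)) = Coalgebra.comul (ι k x)
      rw [comul_ι, map_add, Algebra.TensorProduct.comm_tmul, Algebra.TensorProduct.comm_tmul,
        add_comm]
    exact congr(($h).toLinearMap)

end Groth.Agent.Lib.Helper5.RHopf
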