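import Mathlib
import Groth.Agent.Lib.Helper5.RHopf.A

/-! The antipode of the universal enveloping algebra. -/

set_option autoImplicit false
universe u v

namespace Groth.Agent.Lib.Helper5.RHopf
open scoped TensorProduct
open UniversalEnvelopingAlgebra

attribute [local instance 2000] LieRing.ofAssociativeRing

variable (k : Type u) [CommRing k] (L : Type v) [LieRing L] [LieAlgebra k L]

local notation "𝔘" => UniversalEnvelopingAlgebra k L

/-- `x ↦ op (-x)` as a Lie homomorphism into the opposite algebra -/
noncomputable def antiLie : L →ₗ⁅k⁆ 𝔘ᵐᵒᵖ :=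
  { toLinearMap := (MulOpposite.opLinearEquiv k).toLinearMap ∘ₗ (-(ι k : L →ₗ⁅k⁆ 𝔘).toLinearMap)
    map_lie' := by
      intro x y
      simp only [AddHom.toFun_eq_coe, LinearMap.coe_toAddHom, LinearMap.comp_apply,
        LinearMap.neg_apply, LieHom.coe_toLinearMap, LinearEquiv.coe_coe,
        MulOpposite.coe_opLinearEquiv, LieHom.map_lie, Ring.lie_def]
      rw [← MulOpposite.op_mul, ← MulOpposite.op_mul, ← MulOpposite.op_sub]
      congr 1
      noncomm_ring }

theorem antiLie_apply (x : L) : antiLie k L x = MulOpposite.op (-(ι k x)) := rfl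

/-- the antipode as an algebra map to the opposite algebra -/
noncomputable def antiAlg : 𝔘 →ₐ[k] 𝔘ᵐᵒᵖ := lift k (antiLie k L)

/-- the antipode -/
noncomputable def antipodeU : 𝔘 →ₗ[k] 𝔘 :=
  (MulOpposite.opLinearEquiv k).symm.toLinearMap ∘ₗ (antiAlg k L).toLinearMap

theorem antipodeU_apply (w : 𝔘) : antipodeU k L w = MulOpposite.unop (antiAlg k L w) := rfl

@[simp] theorem antipodeU_ι (x : L) : antipodeU k L (ι k x) = -(ι k x) := by
  rw [antipodeU_apply, antiAlg, lift_ι_apply, antiLie_apply, MulOpposite.unop_op]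

@[simp] theorem antipodeU_one : antipodeU k L 1 = 1 := by
  rw [antipodeU_apply, map_one, MulOpposite.unop_one]

theorem antipodeU_mul (a c : 𝔘) :
    antipodeU k L (a * c) = antipodeU k L c * antipodeU k L a := by
  rw [antipodeU_apply, map_mul, MulOpposite.unop_mul]
  rfl

theorem key_left (x : L) (Y : 𝔘 ⊗[k] 𝔘) :
    LinearMap.mul' k 𝔘 ((antipodeU k L).rTensor 𝔘 ((ι k x ⊗ₜ[k] 1 + 1 ⊗ₜ[k] ι k x) * Y)) = 0 := by
  induction Y using TensorProduct.induction_on with
  | zero => simp
  | add Y Z hY hZ => rw [mul_add, map_add, map_add, hY, hZ, add_zero]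
  | tmul a c =>
    rw [add_mul, Algebra.TensorProduct.tmul_mul_tmul, Algebra.TensorProduct.tmul_mul_tmul,
      map_add, map_add, LinearMap.rTensor_tmul, LinearMap.rTensor_tmul, LinearMap.mul'_apply,
      LinearMap.mul'_apply, antipodeU_mul, antipodeU_ι, one_mul, one_mul]
    noncomm_ring

theorem key_right (x : L) (Y : 𝔘 ⊗[k] 𝔘) :
    LinearMap.mul' k 𝔘 ((antipodeU k L).lTensor 𝔘 (Y * (ι k x ⊗ₜ[k] 1 + 1 ⊗ₜ[k] ι k x))) = 0 := by
  induction Y using TensorProduct.induction_on with
  | zero => simp
  | add Y Z hY hZ => rw [add_mul, map_add, map_add, hY, hZ, add_zero]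
  | tmul a c =>
    rw [mul_add, Algebra.TensorProduct.tmul_mul_tmul, Algebra.TensorProduct.tmul_mul_tmul,
      map_add, map_add, LinearMap.lTensor_tmul, LinearMap.lTensor_tmul, LinearMap.mul'_apply,
      LinearMap.mul'_apply, antipodeU_mul k L c (ι k x), antipodeU_ι, mul_one, mul_one]
    noncomm_ring

noncomputable instance instHopfAlgebraU : HopfAlgebra k 𝔘 where
  antipode := antipodeU k L
  mul_antipode_rTensor_comul := by
    apply LinearMap.ext
    intro w
    simp only [LinearMap.comp_apply]
    induction w using U_induction_left with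
    | h1 =>
      rw [Bialgebra.comul_one, Algebra.TensorProduct.one_def, LinearMap.rTensor_tmul,
        LinearMap.mul'_apply, antipodeU_one, one_mul, Bialgebra.counit_one]
      simp
    | hadd a c ha hc => simp only [map_add, ha, hc]
    | hsmul r a ha => simp only [map_smul, ha]
    | hι x w _ =>
      rw [Bialgebra.comul_mul, comul_ι, key_left, Bialgebra.counit_mul, counit_ι, zero_mul,
        map_zero]
  mul_antipode_lTensor_comul := by
    apply LinearMap.ext
    intro w
    simp only [LinearMap.comp_apply]
    induction w using U_induction_right with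
    | h1 =>
      rw [Bialgebra.comul_one, Algebra.TensorProduct.one_def, LinearMap.lTensor_tmul,
        LinearMap.mul'_apply, antipodeU_one, one_mul, Bialgebra.counit_one]
      simp
    | hadd a c ha hc => simp only [map_add, ha, hc]
    | hsmul r a ha => simp only [map_smul, ha]
    | hι x w _ =>
      rw [Bialgebra.comul_mul, comul_ι, key_right, Bialgebra.counit_mul, counit_ι, mul_zero,
        map_zero]

theorem antipode_eq (w : 𝔘) : HopfAlgebra.antipode k w = antipodeU k L w := rfl

end Groth.Agent.Lib.Helper5.RHopf
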