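import Mathlib
import Groth.Prelude.Def_PLie
import Groth.Agent.Lib.Helper5.RPBW.F
import Groth.Agent.Lib.Helper5.RHopf.B

/-! The ideal generated by the `z_i` is a Hopf ideal. -/

set_option autoImplicit false
universe u v

namespace Groth.Agent.Lib.Helper5.RHopf
open scoped TensorProduct
open UniversalEnvelopingAlgebra PLie
open Groth.Agent.Lib.Helper5.RPBW

attribute [local instance 2000] LieRing.ofAssociativeRing

variable {k : Type u} [Field k] {p : ℕ} [hp : Fact p.Prime] [CharP k p]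
  {L : Type v} [LieRing L] [LieAlgebra k L] (φ : PLie.PMap k p L)
  {n : ℕ} (b : Module.Basis (Fin n) k L)

local notation "𝔘" => UniversalEnvelopingAlgebra k L

instance : Nontrivial 𝔘 :=
  RingHom.domain_nontrivial (Bialgebra.counitAlgHom k 𝔘 : 𝔘 →+* k)

instance : Nontrivial (𝔘 ⊗[k] 𝔘) :=
  RingHom.domain_nontrivial
    (((Algebra.TensorProduct.lid k k).toAlgHom.comp
      (Algebra.TensorProduct.map (Bialgebra.counitAlgHom k 𝔘) (Bialgebra.counitAlgHom k 𝔘))) :
        𝔘 ⊗[k] 𝔘 →+* k)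

instance : CharP 𝔘 p := charP_of_injective_algebraMap (algebraMap k 𝔘).injective p

instance : CharP (𝔘 ⊗[k] 𝔘) p :=
  charP_of_injective_algebraMap (algebraMap k (𝔘 ⊗[k] 𝔘)).injective p

theorem comul_pow_ι (x : L) :
    Coalgebra.comul (R := k) (ι k x ^ p) = (ι k x ^ p) ⊗ₜ[k] 1 + 1 ⊗ₜ[k] (ι k x ^ p) := by
  have h : Coalgebra.comul (R := k) (ι k x ^ p) = (Coalgebra.comul (R := k) (ι k x)) ^ p := by
    have h0 := map_pow (Bialgebra.comulAlgHom k 𝔘) (ι k x) p
    simpa only [Bialgebra.comulAlgHom_apply] using h0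
  rw [h, comul_ι]
  have hc : Commute (ι k x ⊗ₜ[k] (1 : 𝔘)) ((1 : 𝔘) ⊗ₜ[k] ι k x) := by
    unfold Commute SemiconjBy
    rw [Algebra.TensorProduct.tmul_mul_tmul, Algebra.TensorProduct.tmul_mul_tmul, mul_one,
      one_mul]
  rw [add_pow_char_of_commute _ hc, Algebra.TensorProduct.tmul_pow,
    Algebra.TensorProduct.tmul_pow, one_pow]

theorem comul_zel (x : L) :
    Coalgebra.comul (R := k) (zel φ x) = zel φ x ⊗ₜ[k] 1 + 1 ⊗ₜ[k] zel φ x := by
  unfold zel
  rw [map_sub, comul_pow_ι, comul_ι, TensorProduct.sub_tmul, TensorProduct.tmul_sub]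
  abel

theorem counit_zel (x : L) : Coalgebra.counit (R := k) (zel φ x) = 0 := by
  unfold zel
  have h : Coalgebra.counit (R := k) (ι k x ^ p) = (Coalgebra.counit (R := k) (ι k x)) ^ p := by
    have h0 := map_pow (Bialgebra.counitAlgHom k 𝔘) (ι k x) p
    simpa only [Bialgebra.counitAlgHom_apply] using h0
  rw [map_sub, h, counit_ι, counit_ι, zero_pow hp.out.ne_zero, sub_zero]

theorem antipodeU_pow (a : 𝔘) (m : ℕ) : antipodeU k L (a ^ m) = antipodeU k L a ^ m := by
  induction m with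
  | zero => simp
  | succ m ih => rw [pow_succ, antipodeU_mul, ih, pow_succ']

theorem antipode_zel (x : L) : antipodeU k L (zel φ x) = -zel φ x := by
  unfold zel
  rw [map_sub, antipodeU_pow, antipodeU_ι, antipodeU_ι, neg_pow, neg_one_pow_char 𝔘 p]
  noncomm_ring

instance instTwoSided : (Jid φ b).IsTwoSided := by
  refine ⟨fun {a} c ha => ?_⟩
  unfold Jid at ha ⊢
  rw [Ideal.span, Submodule.mem_span_range_iff_exists_fun] at ha
  obtain ⟨f, rfl⟩ := ha
  rw [Finset.sum_mul]
  apply Submodule.sum_mem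
  intro i _
  show f i * zel φ (b i) * c ∈ _
  rw [mul_assoc, zel_comm φ b, ← mul_assoc]
  exact Ideal.mul_mem_left _ _ (Ideal.subset_span ⟨i, rfl⟩)

theorem mk_zel (i : Fin n) : Ideal.Quotient.mk (Jid φ b) (zel φ (b i)) = 0 :=
  Ideal.Quotient.eq_zero_iff_mem.mpr (Ideal.subset_span ⟨i, rfl⟩)

instance instHopfIdeal : (Jid φ b).IsHopfIdeal k where
  counit_eq_zero := by
    intro x hx
    have hx' : x ∈ Jid φ b := hx
    unfold Jid at hx'
    rw [Ideal.span, Submodule.mem_span_range_iff_exists_fun] at hx'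
    obtain ⟨f, rfl⟩ := hx'
    rw [map_sum]
    apply Finset.sum_eq_zero
    intro i _
    show Coalgebra.counit (R := k) (f i * zel φ (b i)) = 0
    rw [Bialgebra.counit_mul, counit_zel, mul_zero]
  map_mkQ_comul_eq_zero := by
    intro x hx
    have hx' : x ∈ Jid φ b := hx
    unfold Jid at hx'
    rw [Ideal.span, Submodule.mem_span_range_iff_exists_fun] at hx'
    obtain ⟨f, rfl⟩ := hx'
    rw [map_sum, map_sum]
    apply Finset.sum_eq_zero
    intro i _
    show (Algebra.TensorProduct.map (Ideal.Quotient.mkₐ k (Jid φ b))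
          (Ideal.Quotient.mkₐ k (Jid φ b))) (Coalgebra.comul (R := k) (f i * zel φ (b i))) = 0
    rw [Bialgebra.comul_mul, map_mul, comul_zel, map_add,
      Algebra.TensorProduct.map_tmul, Algebra.TensorProduct.map_tmul, Ideal.Quotient.mkₐ_eq_mk,
      mk_zel]
    simp
  antipode_mem := by
    intro x hx
    unfold Jid at hx
    rw [Ideal.span, Submodule.mem_span_range_iff_exists_fun] at hx
    obtain ⟨f, rfl⟩ := hx
    rw [map_sum]
    apply Submodule.sum_mem
    intro i _
    show HopfAlgebra.antipode k (f i * zel φ (b i)) ∈ _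
    rw [antipode_eq, antipodeU_mul, antipode_zel, neg_mul]
    apply Submodule.neg_mem
    rw [zel_comm φ b]
    exact Ideal.mul_mem_left _ _ (Ideal.subset_span ⟨i, rfl⟩)

end Groth.Agent.Lib.Helper5.RHopf
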