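import Mathlib

/-! The dual Hopf algebra of a finite-dimensional cocommutative Hopf algebra over a field. -/

set_option autoImplicit false
universe u v

namespace Groth.Agent.Lib.Helper5.RHopf
open scoped TensorProduct
open Coalgebra WithConv

section Dual

variable {k : Type u} [Field k] {H : Type v} [Ring H] [HopfAlgebra k H] [Module.Finite k H]

/-- the dual space with convolution product -/
abbrev DA (k : Type u) [Field k] (H : Type v) [Ring H] [HopfAlgebra k H] : Type (max u v) :=
  WithConv (H →ₗ[k] k)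

noncomputable instance instSemiringDA : Semiring (DA k H) := LinearMap.convSemiring
noncomputable instance instRingDA : Ring (DA k H) := LinearMap.convRing

/-- pairing of `DA ⊗ DA` with `H ⊗ H`, as a linear equivalence -/
noncomputable def E₂ : DA k H ⊗[k] DA k H ≃ₗ[k] WithConv (H ⊗[k] H →ₗ[k] k) :=
  (TensorProduct.congr (WithConv.linearEquiv k (H →ₗ[k] k))
      (WithConv.linearEquiv k (H →ₗ[k] k))) ≪≫ₗ
    TensorProduct.dualDistribEquiv k H H ≪≫ₗ (WithConv.linearEquiv k (H ⊗[k] H →ₗ[k] k)).symm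

theorem E₂_tmul (g h : DA k H) :
    E₂ (g ⊗ₜ[k] h) =
      toConv ((TensorProduct.lid k k).toLinearMap ∘ₗ TensorProduct.map g.ofConv h.ofConv) := rfl

theorem E₂_tmul_apply (g h : DA k H) (w w' : H) :
    E₂ (g ⊗ₜ[k] h) (w ⊗ₜ[k] w') = g w * h w' := rfl

theorem E₂_ext {X Y : DA k H ⊗[k] DA k H}
    (h : ∀ w w' : H, E₂ X (w ⊗ₜ[k] w') = E₂ Y (w ⊗ₜ[k] w')) : X = Y := by
  apply E₂.injective
  apply WithConv.ext
  apply TensorProduct.ext'
  exact h

theorem E₂_mul (X Y : DA k H ⊗[k] DA k H) : E₂ (X * Y) = E₂ X * E₂ Y := by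
  induction X using TensorProduct.induction_on with
  | zero => simp
  | add X₁ X₂ h₁ h₂ => rw [add_mul, map_add, h₁, h₂, map_add, add_mul]
  | tmul a b =>
    induction Y using TensorProduct.induction_on with
    | zero => simp
    | add Y₁ Y₂ h₁ h₂ => rw [mul_add, map_add, h₁, h₂, map_add, mul_add]
    | tmul c d =>
      rw [Algebra.TensorProduct.tmul_mul_tmul, E₂_tmul, E₂_tmul, E₂_tmul]
      have h1 := LinearMap.algHom_comp_convMul_distrib (R := k) (C := H ⊗[k] H)
        ((Algebra.TensorProduct.lid k k).toAlgHom)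
        (toConv (TensorProduct.map a.ofConv b.ofConv))
        (toConv (TensorProduct.map c.ofConv d.ofConv))
      have h2 := TensorProduct.map_convMul_map (R := k) (f := a) (h := c) (g := b) (k := d)
      rw [h2] at h1
      apply WithConv.ext
      exact h1


theorem E₂_one : E₂ (1 : DA k H ⊗[k] DA k H) = 1 := by
  rw [Algebra.TensorProduct.one_def]
  apply WithConv.ext
  apply TensorProduct.ext'
  intro w w'
  show E₂ ((1 : DA k H) ⊗ₜ[k] (1 : DA k H)) (w ⊗ₜ[k] w') = (1 : WithConv (H ⊗[k] H →ₗ[k] k)) (w ⊗ₜ[k] w')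
  rw [E₂_tmul_apply, LinearMap.convOne_apply, LinearMap.convOne_apply, LinearMap.convOne_apply]
  simp [mul_comm]

/-- precomposition with the multiplication of `H` -/
noncomputable def mulStar : DA k H →ₗ[k] WithConv (H ⊗[k] H →ₗ[k] k) :=
  (WithConv.linearEquiv k (H ⊗[k] H →ₗ[k] k)).symm.toLinearMap ∘ₗ
    LinearMap.lcomp k k (LinearMap.mul' k H) ∘ₗ (WithConv.linearEquiv k (H →ₗ[k] k)).toLinearMap

theorem mulStar_apply (f : DA k H) : mulStar f = toConv (f.ofConv ∘ₗ LinearMap.mul' k H) := rfl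

theorem mulStar_apply_tmul (f : DA k H) (w w' : H) : mulStar f (w ⊗ₜ[k] w') = f (w * w') := rfl

theorem mulStar_mul (f g : DA k H) : mulStar (f * g) = mulStar f * mulStar g := by
  rw [mulStar_apply, mulStar_apply, mulStar_apply]
  apply WithConv.ext
  exact LinearMap.convMul_comp_coalgHom_distrib f g (Bialgebra.mulCoalgHom k H)

/-- the comultiplication of the dual -/
noncomputable def comulA : DA k H →ₗ[k] DA k H ⊗[k] DA k H := E₂.symm.toLinearMap ∘ₗ mulStar

theorem E₂_comulA (f : DA k H) : E₂ (comulA f) = mulStar f := by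
  simp [comulA]

theorem E₂_comulA_apply (f : DA k H) (w w' : H) : E₂ (comulA f) (w ⊗ₜ[k] w') = f (w * w') := by
  rw [E₂_comulA]; rfl

/-- the counit of the dual: evaluation at `1` -/
noncomputable def counitA : DA k H →ₗ[k] k :=
  LinearMap.applyₗ (1 : H) ∘ₗ (WithConv.linearEquiv k (H →ₗ[k] k)).toLinearMap

theorem counitA_apply (f : DA k H) : counitA f = f 1 := rfl


/-- pairing of `DA ⊗ (DA ⊗ DA)` with `H ⊗ (H ⊗ H)` -/
noncomputable def E₃ : DA k H ⊗[k] (DA k H ⊗[k] DA k H) ≃ₗ[k] (H ⊗[k] (H ⊗[k] H) →ₗ[k] k) :=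
  (TensorProduct.congr (WithConv.linearEquiv k (H →ₗ[k] k))
      (E₂ ≪≫ₗ WithConv.linearEquiv k (H ⊗[k] H →ₗ[k] k))) ≪≫ₗ
    TensorProduct.dualDistribEquiv k H (H ⊗[k] H)

theorem E₃_tmul_apply (g : DA k H) (T : DA k H ⊗[k] DA k H) (u : H) (z : H ⊗[k] H) :
    E₃ (g ⊗ₜ[k] T) (u ⊗ₜ[k] z) = g u * E₂ T z := rfl

theorem E₃_ext {X Y : DA k H ⊗[k] (DA k H ⊗[k] DA k H)}
    (h : ∀ u v w : H, E₃ X (u ⊗ₜ[k] (v ⊗ₜ[k] w)) = E₃ Y (u ⊗ₜ[k] (v ⊗ₜ[k] w))) : X = Y := by
  apply E₃.injective
  apply TensorProduct.ext'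
  intro u z
  induction z using TensorProduct.induction_on with
  | zero => simp
  | tmul v w => exact h u v w
  | add z₁ z₂ h₁ h₂ => rw [TensorProduct.tmul_add, map_add, map_add, h₁, h₂]

theorem E₃_assoc_tmul (T : DA k H ⊗[k] DA k H) (h : DA k H) (u v w : H) :
    E₃ (TensorProduct.assoc k (DA k H) (DA k H) (DA k H) (T ⊗ₜ[k] h)) (u ⊗ₜ[k] (v ⊗ₜ[k] w)) =
      E₂ T (u ⊗ₜ[k] v) * h w := by
  induction T using TensorProduct.induction_on with
  | zero => simp
  | tmul a b =>
    rw [TensorProduct.assoc_tmul, E₃_tmul_apply, E₂_tmul_apply, E₂_tmul_apply, mul_assoc]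
  | add T₁ T₂ h₁ h₂ =>
    rw [TensorProduct.add_tmul, map_add, map_add, LinearMap.add_apply, h₁, h₂, map_add]
    show _ = (E₂ T₁ (u ⊗ₜ[k] v) + E₂ T₂ (u ⊗ₜ[k] v)) * h w
    rw [add_mul]

theorem E₃_assoc_rTensor (Z : DA k H ⊗[k] DA k H) (u v w : H) :
    E₃ (TensorProduct.assoc k (DA k H) (DA k H) (DA k H) (comulA.rTensor (DA k H) Z))
        (u ⊗ₜ[k] (v ⊗ₜ[k] w)) = E₂ Z ((u * v) ⊗ₜ[k] w) := by
  induction Z using TensorProduct.induction_on with
  | zero => simp
  | tmul g h =>
    rw [LinearMap.rTensor_tmul, E₃_assoc_tmul, E₂_comulA_apply, E₂_tmul_apply]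
  | add Z₁ Z₂ h₁ h₂ =>
    rw [map_add, map_add, map_add, LinearMap.add_apply, h₁, h₂, map_add]
    rfl

theorem E₃_lTensor (Z : DA k H ⊗[k] DA k H) (u v w : H) :
    E₃ (comulA.lTensor (DA k H) Z) (u ⊗ₜ[k] (v ⊗ₜ[k] w)) = E₂ Z (u ⊗ₜ[k] (v * w)) := by
  induction Z using TensorProduct.induction_on with
  | zero => simp
  | tmul g h =>
    rw [LinearMap.lTensor_tmul, E₃_tmul_apply, E₂_comulA_apply, E₂_tmul_apply]
  | add Z₁ Z₂ h₁ h₂ =>
    rw [map_add, map_add, LinearMap.add_apply, h₁, h₂, map_add]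
    rfl

theorem lid_rTensor_counitA (Z : DA k H ⊗[k] DA k H) (w : H) :
    (TensorProduct.lid k (DA k H) (counitA.rTensor (DA k H) Z)) w = E₂ Z (1 ⊗ₜ[k] w) := by
  induction Z using TensorProduct.induction_on with
  | zero => simp
  | tmul g h =>
    rw [LinearMap.rTensor_tmul, TensorProduct.lid_tmul, E₂_tmul_apply, counitA_apply]
    rfl
  | add Z₁ Z₂ h₁ h₂ =>
    rw [map_add, map_add, map_add]
    exact congrArg₂ (· + ·) h₁ h₂

theorem rid_lTensor_counitA (Z : DA k H ⊗[k] DA k H) (w : H) :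
    (TensorProduct.rid k (DA k H) (counitA.lTensor (DA k H) Z)) w = E₂ Z (w ⊗ₜ[k] 1) := by
  induction Z using TensorProduct.induction_on with
  | zero => simp
  | tmul g h =>
    rw [LinearMap.lTensor_tmul, TensorProduct.rid_tmul, E₂_tmul_apply, counitA_apply]
    show h 1 * g w = g w * h 1
    rw [mul_comm]
  | add Z₁ Z₂ h₁ h₂ =>
    rw [map_add, map_add, map_add]
    exact congrArg₂ (· + ·) h₁ h₂

noncomputable instance instCoalgebraDA : Coalgebra k (DA k H) where
  comul := comulA
  counit := counitA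
  coassoc := by
    apply LinearMap.ext
    intro f
    apply E₃_ext
    intro u v w
    show E₃ (TensorProduct.assoc k (DA k H) (DA k H) (DA k H) (comulA.rTensor (DA k H) (comulA f)))
        (u ⊗ₜ[k] (v ⊗ₜ[k] w)) = E₃ (comulA.lTensor (DA k H) (comulA f)) (u ⊗ₜ[k] (v ⊗ₜ[k] w))
    rw [E₃_assoc_rTensor, E₃_lTensor, E₂_comulA_apply, E₂_comulA_apply, mul_assoc]
  rTensor_counit_comp_comul := by
    apply LinearMap.ext
    intro f
    apply (TensorProduct.lid k (DA k H)).injective
    apply WithConv.ext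
    apply LinearMap.ext
    intro w
    show (TensorProduct.lid k (DA k H) (counitA.rTensor (DA k H) (comulA f))) w =
      (TensorProduct.lid k (DA k H) ((1 : k) ⊗ₜ[k] f)) w
    rw [lid_rTensor_counitA, E₂_comulA_apply, one_mul, TensorProduct.lid_tmul, one_smul]
  lTensor_counit_comp_comul := by
    apply LinearMap.ext
    intro f
    apply (TensorProduct.rid k (DA k H)).injective
    apply WithConv.ext
    apply LinearMap.ext
    intro w
    show (TensorProduct.rid k (DA k H) (counitA.lTensor (DA k H) (comulA f))) w =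
      (TensorProduct.rid k (DA k H) (f ⊗ₜ[k] (1 : k))) w
    rw [rid_lTensor_counitA, E₂_comulA_apply, mul_one, TensorProduct.rid_tmul, one_smul]


theorem mulStar_one : mulStar (1 : DA k H) = 1 := by
  apply WithConv.ext
  apply TensorProduct.ext'
  intro w w'
  show (1 : DA k H) (w * w') = (1 : WithConv (H ⊗[k] H →ₗ[k] k)) (w ⊗ₜ[k] w')
  rw [LinearMap.convOne_apply, LinearMap.convOne_apply]
  simp [mul_comm]

noncomputable instance instBialgebraDA : Bialgebra k (DA k H) :=
  Bialgebra.mk' k (DA k H)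
    (by
      show (1 : DA k H) 1 = 1
      rw [LinearMap.convOne_apply]
      simp)
    (by
      intro f g
      show (f * g) 1 = f 1 * g 1
      rw [LinearMap.convMul_apply, Bialgebra.comul_one, Algebra.TensorProduct.one_def,
        TensorProduct.map_tmul, LinearMap.mul'_apply])
    (by
      apply E₂.injective
      show E₂ (comulA 1) = E₂ 1
      rw [E₂_comulA, mulStar_one, E₂_one])
    (by
      intro f g
      apply E₂.injective
      show E₂ (comulA (f * g)) = E₂ (comulA f * comulA g)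
      rw [E₂_comulA, mulStar_mul, E₂_mul, E₂_comulA, E₂_comulA])

theorem comul_def_DA (f : DA k H) : Coalgebra.comul (R := k) f = comulA f := rfl
theorem counit_def_DA (f : DA k H) : Coalgebra.counit (R := k) f = f 1 := rfl

/-- the antipode of the dual -/
noncomputable def antipodeA : DA k H →ₗ[k] DA k H :=
  (WithConv.linearEquiv k (H →ₗ[k] k)).symm.toLinearMap ∘ₗ
    LinearMap.lcomp k k (HopfAlgebra.antipode k (A := H)) ∘ₗ
      (WithConv.linearEquiv k (H →ₗ[k] k)).toLinearMap

theorem antipodeA_apply (f : DA k H) (w : H) : antipodeA f w = f (HopfAlgebra.antipode k w) := rfl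

theorem mul'_eq_lid : LinearMap.mul' k k = (TensorProduct.lid k k).toLinearMap := by
  apply TensorProduct.ext'
  intro a b
  simp

theorem E₂_apply_general (g h : DA k H) (z : H ⊗[k] H) :
    E₂ (g ⊗ₜ[k] h) z = LinearMap.mul' k k (TensorProduct.map g.ofConv h.ofConv z) := by
  rw [mul'_eq_lid]; rfl

theorem mul'_rTensor_antipodeA (Z : DA k H ⊗[k] DA k H) (w : H) :
    (LinearMap.mul' k (DA k H) (antipodeA.rTensor (DA k H) Z)) w =
      E₂ Z ((HopfAlgebra.antipode k (A := H)).rTensor H (Coalgebra.comul w)) := by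
  induction Z using TensorProduct.induction_on with
  | zero => simp
  | tmul g h =>
    rw [LinearMap.rTensor_tmul, LinearMap.mul'_apply, LinearMap.convMul_apply, E₂_apply_general]
    congr 1
    rw [LinearMap.map_rTensor]
    rfl
  | add Z₁ Z₂ h₁ h₂ =>
    rw [map_add, map_add, map_add]
    exact congrArg₂ (· + ·) h₁ h₂

theorem mul'_lTensor_antipodeA (Z : DA k H ⊗[k] DA k H) (w : H) :
    (LinearMap.mul' k (DA k H) (antipodeA.lTensor (DA k H) Z)) w =
      E₂ Z ((HopfAlgebra.antipode k (A := H)).lTensor H (Coalgebra.comul w)) := by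
  induction Z using TensorProduct.induction_on with
  | zero => simp
  | tmul g h =>
    rw [LinearMap.lTensor_tmul, LinearMap.mul'_apply, LinearMap.convMul_apply, E₂_apply_general]
    congr 1
    rw [LinearMap.map_lTensor]
    rfl
  | add Z₁ Z₂ h₁ h₂ =>
    rw [map_add, map_add, map_add]
    exact congrArg₂ (· + ·) h₁ h₂

theorem mulStar_apply_general (f : DA k H) (z : H ⊗[k] H) :
    mulStar f z = f (LinearMap.mul' k H z) := rfl

noncomputable instance instHopfAlgebraDA : HopfAlgebra k (DA k H) where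
  antipode := antipodeA
  mul_antipode_rTensor_comul := by
    apply LinearMap.ext
    intro f
    apply WithConv.ext
    apply LinearMap.ext
    intro w
    show (LinearMap.mul' k (DA k H) (antipodeA.rTensor (DA k H) (comulA f))) w =
      (algebraMap k (DA k H) (f 1)) w
    rw [mul'_rTensor_antipodeA, E₂_comulA, mulStar_apply_general,
      HopfAlgebra.mul_antipode_rTensor_comul_apply, LinearMap.convAlgebraMap_apply,
      Algebra.algebraMap_eq_smul_one, map_smul]
    simp [mul_comm]
  mul_antipode_lTensor_comul := by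
    apply LinearMap.ext
    intro f
    apply WithConv.ext
    apply LinearMap.ext
    intro w
    show (LinearMap.mul' k (DA k H) (antipodeA.lTensor (DA k H) (comulA f))) w =
      (algebraMap k (DA k H) (f 1)) w
    rw [mul'_lTensor_antipodeA, E₂_comulA, mulStar_apply_general,
      HopfAlgebra.mul_antipode_lTensor_comul_apply, LinearMap.convAlgebraMap_apply,
      Algebra.algebraMap_eq_smul_one, map_smul]
    simp [mul_comm]

end Dual
end Groth.Agent.Lib.Helper5.RHopf
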