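import Mathlib
import Groth.Agent.Lib.Helper5.RHopf.D

/-! Left-invariant derivations of the dual Hopf algebra. -/

set_option autoImplicit false
universe u v w

namespace Groth.Agent.Lib.Helper5.RHopf
open scoped TensorProduct
open Coalgebra WithConv

section Der

variable {k : Type u} [Field k] {H : Type v} [Ring H] [HopfAlgebra k H] [Module.Finite k H]
  [IsCocomm k H]

noncomputable instance instCommRingDA : CommRing (DA k H) := LinearMap.convCommRing

/-- primitive elements -/
def IsPrim (ξ : H) : Prop := Coalgebra.comul (R := k) ξ = ξ ⊗ₜ[k] 1 + 1 ⊗ₜ[k] ξ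

omit [Module.Finite k H] [IsCocomm k H] in
theorem counit_prim {ξ : H} (h : IsPrim (k := k) ξ) : Coalgebra.counit (R := k) ξ = 0 := by
  have h1 := Coalgebra.rTensor_counit_comul (R := k) ξ
  rw [h, map_add, LinearMap.rTensor_tmul, LinearMap.rTensor_tmul, Bialgebra.counit_one] at h1
  have h2 : (Coalgebra.counit (R := k) ξ) ⊗ₜ[k] (1 : H) = 0 := by
    have := add_eq_right.mp h1
    exact this
  have h3 := congrArg (fun z => Coalgebra.counit (R := k) (TensorProduct.lid k H z)) h2
  simpa using h3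

omit [Module.Finite k H] [IsCocomm k H] in
theorem mul_tmul_one (T : H ⊗[k] H) (ξ : H) :
    T * (ξ ⊗ₜ[k] 1) = (LinearMap.mulRight k ξ).rTensor H T := by
  induction T using TensorProduct.induction_on with
  | zero => simp
  | tmul a b => simp
  | add T₁ T₂ h₁ h₂ => rw [add_mul, h₁, h₂, map_add]

omit [Module.Finite k H] [IsCocomm k H] in
theorem mul_one_tmul (T : H ⊗[k] H) (ξ : H) :
    T * (1 ⊗ₜ[k] ξ) = (LinearMap.mulRight k ξ).lTensor H T := by
  induction T using TensorProduct.induction_on with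
  | zero => simp
  | tmul a b => simp
  | add T₁ T₂ h₁ h₂ => rw [add_mul, h₁, h₂, map_add]

/-- `f ↦ f(· ξ)` -/
noncomputable def Dfun (ξ : H) : DA k H →ₗ[k] DA k H :=
  (WithConv.linearEquiv k (H →ₗ[k] k)).symm.toLinearMap ∘ₗ
    LinearMap.lcomp k k (LinearMap.mulRight k ξ) ∘ₗ
      (WithConv.linearEquiv k (H →ₗ[k] k)).toLinearMap

omit [Module.Finite k H] [IsCocomm k H] in
theorem Dfun_apply (ξ : H) (f : DA k H) (w : H) : Dfun ξ f w = f (w * ξ) := rfl

omit [Module.Finite k H] in
theorem Dfun_leibniz {ξ : H} (hξ : IsPrim (k := k) ξ) (f g : DA k H) :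
    Dfun ξ (f * g) = f * Dfun ξ g + g * Dfun ξ f := by
  apply WithConv.ext
  apply LinearMap.ext
  intro w
  show (f * g) (w * ξ) = (f * Dfun ξ g) w + (g * Dfun ξ f) w
  rw [mul_comm g, LinearMap.convMul_apply, LinearMap.convMul_apply, LinearMap.convMul_apply,
    Bialgebra.comul_mul, hξ, mul_add, mul_tmul_one, mul_one_tmul, map_add, map_add,
    LinearMap.map_rTensor, LinearMap.map_lTensor, add_comm]
  rfl

/-- the derivation attached to a primitive element -/
noncomputable def DerP (ξ : H) (hξ : IsPrim (k := k) ξ) : Derivation k (DA k H) (DA k H) :=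
  Derivation.mk' (Dfun ξ) (fun f g => by
    rw [smul_eq_mul, smul_eq_mul]; exact Dfun_leibniz hξ f g)

theorem DerP_apply (ξ : H) (hξ : IsPrim (k := k) ξ) (f : DA k H) (w : H) :
    DerP ξ hξ f w = f (w * ξ) := rfl


/-- left-invariance of a linear endomorphism of the dual -/
def IsLeftInv (D : DA k H →ₗ[k] DA k H) : Prop :=
  CoalgebraStruct.comul (R := k) (A := DA k H) ∘ₗ D =
    LinearMap.lTensor (DA k H) D ∘ₗ CoalgebraStruct.comul (R := k) (A := DA k H)

theorem E₂_lTensor_Dfun (ξ : H) (Z : DA k H ⊗[k] DA k H) (w w' : H) :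
    E₂ ((Dfun ξ).lTensor (DA k H) Z) (w ⊗ₜ[k] w') = E₂ Z (w ⊗ₜ[k] (w' * ξ)) := by
  induction Z using TensorProduct.induction_on with
  | zero => simp
  | tmul g h =>
    rw [LinearMap.lTensor_tmul, E₂_tmul_apply, E₂_tmul_apply, Dfun_apply]
  | add Z₁ Z₂ h₁ h₂ =>
    rw [map_add, map_add, map_add]
    exact congrArg₂ (· + ·) h₁ h₂

theorem Dfun_leftInv (ξ : H) : IsLeftInv (k := k) (Dfun ξ) := by
  apply LinearMap.ext
  intro f
  apply E₂_ext
  intro w w'
  show E₂ (comulA (Dfun ξ f)) (w ⊗ₜ[k] w') = E₂ ((Dfun ξ).lTensor (DA k H) (comulA f)) (w ⊗ₜ[k] w')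
  rw [E₂_comulA_apply, E₂_lTensor_Dfun, E₂_comulA_apply, Dfun_apply, mul_assoc]

/-- the element of `H` attached to a linear endomorphism of the dual -/
noncomputable def xiOf (D : DA k H →ₗ[k] DA k H) : H :=
  (Module.evalEquiv k H).symm
    (counitA ∘ₗ D ∘ₗ (WithConv.linearEquiv k (H →ₗ[k] k)).symm.toLinearMap)

theorem apply_xiOf (D : DA k H →ₗ[k] DA k H) (f : DA k H) : f (xiOf D) = D f 1 := by
  unfold xiOf
  have := Module.apply_evalEquiv_symm_apply (R := k) (M := H) f.ofConv
    (counitA ∘ₗ D ∘ₗ (WithConv.linearEquiv k (H →ₗ[k] k)).symm.toLinearMap)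
  exact this

theorem E₂_lTensor_at_one (D : DA k H →ₗ[k] DA k H) (Z : DA k H ⊗[k] DA k H) (w : H) :
    E₂ (D.lTensor (DA k H) Z) (w ⊗ₜ[k] 1) = E₂ Z (w ⊗ₜ[k] xiOf D) := by
  induction Z using TensorProduct.induction_on with
  | zero => simp
  | tmul g h =>
    rw [LinearMap.lTensor_tmul, E₂_tmul_apply, E₂_tmul_apply, apply_xiOf]
  | add Z₁ Z₂ h₁ h₂ =>
    rw [map_add, map_add, map_add]
    exact congrArg₂ (· + ·) h₁ h₂

theorem eq_Dfun_of_leftInv (D : DA k H →ₗ[k] DA k H) (hD : IsLeftInv (k := k) D) :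
    D = Dfun (xiOf D) := by
  apply LinearMap.ext
  intro f
  apply WithConv.ext
  apply LinearMap.ext
  intro w
  show D f w = f (w * xiOf D)
  have h1 := E₂_comulA_apply (D f) w 1
  rw [mul_one] at h1
  have h2 : comulA (D f) = D.lTensor (DA k H) (comulA f) := LinearMap.congr_fun hD f
  rw [← h1, h2, E₂_lTensor_at_one, E₂_comulA_apply]

omit [IsCocomm k H] in
theorem eq_zero_of_E₂_tmul (X : H ⊗[k] H)
    (h : ∀ g h : DA k H, E₂ (g ⊗ₜ[k] h) X = 0) : X = 0 := by
  rw [← Module.forall_dual_apply_eq_zero_iff k]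
  intro F
  have hZ : ∀ Z : DA k H ⊗[k] DA k H, E₂ Z X = 0 := by
    intro Z
    induction Z using TensorProduct.induction_on with
    | zero => simp
    | tmul g h' => exact h g h'
    | add Z₁ Z₂ h₁ h₂ =>
      rw [map_add]
      have := congrArg₂ (· + ·) h₁ h₂
      simpa using this
  have := hZ (E₂.symm (toConv F))
  rw [LinearEquiv.apply_symm_apply] at this
  exact this

theorem xiOf_prim (D : Derivation k (DA k H) (DA k H)) : IsPrim (k := k) (xiOf D.toLinearMap) := by
  unfold IsPrim
  rw [← sub_eq_zero]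
  apply eq_zero_of_E₂_tmul
  intro g h
  rw [map_sub, map_add, sub_eq_zero, E₂_tmul_apply, E₂_tmul_apply, E₂_apply_general,
    ← LinearMap.convMul_apply, apply_xiOf, apply_xiOf, apply_xiOf]
  have hl : D.toLinearMap (g * h) = g * D h + h * D g := by
    have := D.leibniz g h
    simpa [smul_eq_mul] using this
  rw [hl]
  show counitA (g * D h + h * D g) = _
  have hc : ∀ a b : DA k H, counitA (a * b) = a 1 * b 1 := fun a b =>
    Bialgebra.counit_mul (R := k) a b
  rw [map_add, hc, hc]
  show g 1 * D h 1 + h 1 * D g 1 = D g 1 * h 1 + g 1 * D h 1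
  ring


theorem Dfun_pow (ξ : H) (m : ℕ) (f : DA k H) (w : H) :
    (Dfun (k := k) ξ ^ m) f w = f (w * ξ ^ m) := by
  induction m generalizing f with
  | zero => simp
  | succ m ih =>
    rw [pow_succ, Module.End.mul_apply, ih, Dfun_apply, pow_succ, mul_assoc]

section Main

variable (p : ℕ) [hp : Fact p.Prime] [CharP k p] {L : Type w} [LieRing L] [LieAlgebra k L]
  (ι : L →ₗ[k] H) (hprim : ∀ x, IsPrim (k := k) (ι x))

/-- the map from `L` to derivations of the dual -/
noncomputable def eMap : L →ₗ[k] Derivation k (DA k H) (DA k H) where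
  toFun x := DerP (ι x) (hprim x)
  map_add' x y := by
    apply Derivation.ext
    intro f
    apply WithConv.ext
    apply LinearMap.ext
    intro w
    show f (w * ι (x + y)) = f (w * ι x) + f (w * ι y)
    rw [map_add, mul_add, map_add]
  map_smul' c x := by
    apply Derivation.ext
    intro f
    apply WithConv.ext
    apply LinearMap.ext
    intro w
    show f (w * ι (c • x)) = c • f (w * ι x)
    rw [map_smul, mul_smul_comm, map_smul]

theorem eMap_apply (x : L) (f : DA k H) (w : H) : eMap ι hprim x f w = f (w * ι x) := rfl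

theorem eMap_toLinearMap (x : L) : (eMap ι hprim x).toLinearMap = Dfun (ι x) := rfl

include hp hprim in
theorem pow_eq_zero_of_gen
    (hgen : ∀ w : H, w ∈ Submodule.span k ({1} ∪ {z | ∃ (w' : H) (x : L), z = w' * ι x}))
    (f : DA k H) (hf : f 1 = 0) : f ^ p = 0 := by
  have h1 : (f ^ p) 1 = 0 := by
    have := map_pow (Bialgebra.counitAlgHom k (DA k H)) f p
    have h2 : Bialgebra.counitAlgHom k (DA k H) f = 0 := hf
    rw [h2, zero_pow hp.out.ne_zero] at this
    exact this
  have h3 : ∀ x : L, eMap ι hprim x (f ^ p) = 0 := by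
    intro x
    rw [Derivation.leibniz_pow]
    have : ((p : ℕ) : k) = 0 := CharP.cast_eq_zero k p
    rw [← Nat.cast_smul_eq_nsmul k, this, zero_smul]
  apply WithConv.ext
  apply LinearMap.ext
  intro w
  show (f ^ p) w = 0
  have hw := hgen w
  induction hw using Submodule.span_induction with
  | mem z hz =>
    rcases hz with hz | ⟨w', x, rfl⟩
    · rw [Set.mem_singleton_iff] at hz
      rw [hz]; exact h1
    · have := congrArg (fun g : DA k H => g w') (h3 x)
      exact this
  | zero => exact map_zero (f ^ p).ofConv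
  | add a b _ _ ha hb => rw [map_add, ha, hb, add_zero]
  | smul c a _ ha => rw [map_smul, ha, smul_zero]

include hp hprim in
theorem dual_main (φ : L → L) (hinj : Function.Injective ι)
    (hlie : ∀ x y, ι ⁅x, y⁆ = ι x * ι y - ι y * ι x)
    (hpow : ∀ x, ι (φ x) = ι x ^ p)
    (hgen : ∀ w : H, w ∈ Submodule.span k ({1} ∪ {z | ∃ (w' : H) (x : L), z = w' * ι x}))
    (hP : ∀ ξ : H, IsPrim (k := k) ξ → ξ ∈ LinearMap.range ι) :
    (∀ f : DA k H, Bialgebra.counitAlgHom k (DA k H) f = 0 → f ^ p = 0) ∧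
      ∃ e : L →ₗ[k] Derivation k (DA k H) (DA k H), Function.Injective e ∧
        Set.range e = {D : Derivation k (DA k H) (DA k H) |
          CoalgebraStruct.comul (R := k) (A := DA k H) ∘ₗ D.toLinearMap =
            LinearMap.lTensor (DA k H) D.toLinearMap ∘ₗ
              CoalgebraStruct.comul (R := k) (A := DA k H)} ∧
        (∀ x y : L, e ⁅x, y⁆ = ⁅e x, e y⁆) ∧
        (∀ x : L, (e (φ x)).toLinearMap = (e x).toLinearMap ^ p) := by
  refine ⟨fun f hf => pow_eq_zero_of_gen p ι hprim hgen f hf, eMap ι hprim, ?_, ?_, ?_, ?_⟩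
  · rw [injective_iff_map_eq_zero]
    intro x hx
    apply hinj
    rw [map_zero, ← Module.forall_dual_apply_eq_zero_iff k]
    intro F
    have := congrArg (fun D : Derivation k (DA k H) (DA k H) => D (toConv F) 1) hx
    simpa [eMap_apply] using this
  · apply Set.eq_of_subset_of_subset
    · rintro _ ⟨x, rfl⟩
      exact Dfun_leftInv (ι x)
    · intro D hD
      have h1 := eq_Dfun_of_leftInv D.toLinearMap hD
      obtain ⟨x, hx⟩ := hP _ (xiOf_prim D)
      refine ⟨x, ?_⟩
      apply Derivation.ext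
      intro f
      show Dfun (ι x) f = D.toLinearMap f
      rw [h1, hx]
  · intro x y
    apply Derivation.ext
    intro f
    apply WithConv.ext
    apply LinearMap.ext
    intro w
    rw [Derivation.commutator_apply]
    show f (w * ι ⁅x, y⁆) = f (w * ι x * ι y) - f (w * ι y * ι x)
    rw [hlie, mul_sub, map_sub, mul_assoc, mul_assoc]
  · intro x
    rw [eMap_toLinearMap, eMap_toLinearMap]
    apply LinearMap.ext
    intro f
    apply WithConv.ext
    apply LinearMap.ext
    intro w
    rw [Dfun_pow, Dfun_apply, hpow]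

end Main

end Der
end Groth.Agent.Lib.Helper5.RHopf
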