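import Mathlib
import Groth.Prelude.Def_PLie
import Groth.Agent.Lib.Helper5.RPBW.F
import Groth.Agent.Lib.Helper5.RHopf.C
import Groth.Agent.Lib.Helper5.RHopf.E

/-! The restricted enveloping algebra as a finite cocommutative Hopf algebra. -/

set_option autoImplicit false
universe u v

namespace Groth.Agent.Lib.Helper5.RHopf
open scoped TensorProduct
open UniversalEnvelopingAlgebra PLie
open Groth.Agent.Lib.Helper5.RPBW

attribute [local instance 2000] LieRing.ofAssociativeRing

variable {k : Type u} [Field k] {p : ℕ} [hp : Fact p.Prime] [CharP k p]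
  {L : Type v} [LieRing L] [LieAlgebra k L] (φ : PLie.PMap k p L)
  {n : ℕ} (b : Module.Basis (Fin n) k L)

local notation "𝔘" => UniversalEnvelopingAlgebra k L

/-- the restricted enveloping algebra -/
abbrev Hq : Type (max u v) := 𝔘 ⧸ Jid φ b

noncomputable instance instHopfHq : HopfAlgebra k (Hq φ b) := inferInstance

instance instFiniteHq : Module.Finite k (Hq φ b) := Wq_finite φ b

instance instCocommHq : Coalgebra.IsCocomm k (Hq φ b) where
  comm_comp_comul := by
    apply LinearMap.ext
    intro w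
    obtain ⟨a, rfl⟩ := Ideal.Quotient.mk_surjective w
    show (TensorProduct.comm k (Hq φ b) (Hq φ b)) (Coalgebra.comul (R := k) (Ideal.Quotient.mk _ a)) =
      Coalgebra.comul (R := k) (Ideal.Quotient.mk _ a)
    rw [Bialgebra.Quotient.comul_mk]
    conv_rhs => rw [← Coalgebra.comm_comul k a]
    generalize Coalgebra.comul (R := k) a = T
    induction T using TensorProduct.induction_on with
    | zero => simp
    | tmul x y => simp
    | add T₁ T₂ h₁ h₂ => simp only [map_add, h₁, h₂]

/-- the canonical map `L → u(L)` -/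
noncomputable def ιH : L →ₗ[k] Hq φ b :=
  (Ideal.Quotient.mkₐ k (Jid φ b)).toLinearMap ∘ₗ (ι k : L →ₗ⁅k⁆ 𝔘).toLinearMap

theorem ιH_apply (x : L) : ιH φ b x = Ideal.Quotient.mk (Jid φ b) (ι k x) := rfl

theorem ιH_injective : Function.Injective (ιH φ b) := by
  rw [injective_iff_map_eq_zero]
  intro x hx
  rw [ιH_apply, Ideal.Quotient.eq_zero_iff_mem] at hx
  exact eq_zero_of_ι_mem_Jid φ b x hx

theorem ιH_prim (x : L) : IsPrim (k := k) (ιH φ b x) := by
  unfold IsPrim
  rw [ιH_apply, Bialgebra.Quotient.comul_mk, comul_ι, map_add, TensorProduct.map_tmul,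
    TensorProduct.map_tmul]
  rfl

theorem ιH_lie (x y : L) : ιH φ b ⁅x, y⁆ = ιH φ b x * ιH φ b y - ιH φ b y * ιH φ b x := by
  rw [ιH_apply, ιH_apply, ιH_apply, LieHom.map_lie, Ring.lie_def, map_sub, map_mul, map_mul]

theorem ιH_pow (x : L) : ιH φ b (φ x) = ιH φ b x ^ p := by
  have h := congrArg (fun f : Module.End k (Wq φ b) => f (Submodule.Quotient.mk 1)) (eW_pmap φ b x)
  simp only [eW_apply] at h
  rw [← map_pow, rhoW_mk, rhoW_mk, mul_one, mul_one] at h
  rw [ιH_apply, ιH_apply, ← map_pow]
  exact h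

theorem ιH_gen (w : Hq φ b) :
    w ∈ Submodule.span k ({1} ∪ {z | ∃ (w' : Hq φ b) (x : L), z = w' * ιH φ b x}) := by
  obtain ⟨a, rfl⟩ := Ideal.Quotient.mk_surjective w
  induction a using U_induction_right with
  | h1 => exact Submodule.subset_span (Or.inl rfl)
  | hadd a c ha hc => rw [map_add]; exact Submodule.add_mem _ ha hc
  | hsmul r a ha =>
    have : Ideal.Quotient.mk (Jid φ b) (r • a) = r • Ideal.Quotient.mk (Jid φ b) a := rfl
    rw [this]; exact Submodule.smul_mem _ _ ha
  | hι x w _ =>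
    rw [map_mul]
    exact Submodule.subset_span (Or.inr ⟨_, x, rfl⟩)

end Groth.Agent.Lib.Helper5.RHopf
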