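import Mathlib

/-! Splittings of a list into two complementary sublists. -/

set_option autoImplicit false
universe u v

namespace Groth.Agent.Lib.Helper5.RHopf

/-- all ways to split a list into two complementary sublists -/
def split {ι : Type u} : List ι → List (List ι × List ι)
  | [] => [([], [])]
  | j :: l => (split l).map (fun q => (j :: q.1, q.2)) ++ (split l).map (fun q => (q.1, j :: q.2))

theorem split_sublist {ι : Type u} : ∀ (l : List ι) (q : List ι × List ι), q ∈ split l →
    q.1.Sublist l ∧ q.2.Sublist l
  | [], q, hq => by
    simp only [split, List.mem_singleton] at hq
    subst hq
    exact ⟨List.Sublist.refl _, List.Sublist.refl _⟩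
  | j :: l, q, hq => by
    simp only [split, List.mem_append, List.mem_map] at hq
    rcases hq with ⟨q', hq', rfl⟩ | ⟨q', hq', rfl⟩
    · exact ⟨(split_sublist l q' hq').1.cons_cons j, (split_sublist l q' hq').2.cons j⟩
    · exact ⟨(split_sublist l q' hq').1.cons j, (split_sublist l q' hq').2.cons_cons j⟩

theorem sum_split_nil {ι : Type u} [DecidableEq ι] {M : Type v} [AddCommMonoid M]
    (F : List ι → M) : ∀ l : List ι,
    ((split l).map fun q => if q.1 = [] then F q.2 else 0).sum = F l
  | [] => by simp [split]
  | j :: l => by
    have ih := sum_split_nil (fun t => F (j :: t)) l
    simp only [split, List.map_append, List.map_map, List.sum_append, Function.comp_def]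
    simp only [List.cons_ne_nil, if_false]
    rw [List.sum_map_zero, zero_add]
    exact ih

theorem sum_split_single {ι : Type u} [LinearOrder ι] {M : Type v} [AddCommMonoid M] (i : ι) :
    ∀ (l : List ι) (F : List ι → M), l.Pairwise (· ≤ ·) →
    ((split l).map fun q => if q.1 = [i] then F q.2 else 0).sum = l.count i • F (l.erase i)
  | [], F, _ => by simp [split]
  | j :: l, F, hl => by
    rw [List.pairwise_cons] at hl
    have ih := sum_split_single i l (fun t => F (j :: t)) hl.2
    simp only [split, List.map_append, List.map_map, List.sum_append, Function.comp_def]
    rw [ih]
    by_cases hji : j = i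
    · subst hji
      have h1 : ((split l).map fun q : List ι × List ι =>
          if j :: q.1 = [j] then F q.2 else 0) =
          (split l).map fun q => if q.1 = [] then F q.2 else 0 := by
        apply List.map_congr_left
        intro q _
        simp
      rw [h1, sum_split_nil F l, List.count_cons_self, List.erase_cons_head, add_smul, one_smul,
        add_comm]
      congr 1
      by_cases hc : l.count j = 0
      · rw [hc, zero_smul, zero_smul]
      · have hmem : j ∈ l := List.count_pos_iff.mp (Nat.pos_of_ne_zero hc)
        have : j :: l.erase j = l := by
          cases l with
          | nil => simp at hmem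
          | cons a l' =>
            have ha : a = j := by
              apply le_antisymm
              · rcases List.mem_cons.mp hmem with h | h
                · exact h.ge
                · exact (List.pairwise_cons.mp hl.2).1 j h
              · exact hl.1 a (List.mem_cons_self)
            subst ha
            rw [List.erase_cons_head]
        rw [this]
    · have h1 : ((split l).map fun q : List ι × List ι =>
          if j :: q.1 = [i] then F q.2 else 0) = (split l).map fun _ => (0 : M) := by
        apply List.map_congr_left
        intro q _
        simp [hji]
      rw [h1, List.sum_map_zero, zero_add, List.count_cons_of_ne hji,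
        List.erase_cons_tail (by simpa using hji)]

end Groth.Agent.Lib.Helper5.RHopf
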