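import Mathlib
import Groth.Prelude.Def_PLie
import Groth.Agent.Lib.Helper5.RHopf.F
import Groth.Agent.Lib.Helper5.RHopf.G1

/-! Primitive elements of the restricted enveloping algebra. -/

set_option autoImplicit false
universe u v

namespace Groth.Agent.Lib.Helper5.RHopf
open scoped TensorProduct
open UniversalEnvelopingAlgebra PLie
open Groth.Agent.Lib.Helper5.RPBW
open Groth.Agent.H1.PBW (mon mon_cons mon_nil)

attribute [local instance 2000] LieRing.ofAssociativeRing

variable {k : Type u} [Field k] {p : ℕ} [hp : Fact p.Prime] [CharP k p]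
  {L : Type v} [LieRing L] [LieAlgebra k L] (φ : PLie.PMap k p L)
  {n : ℕ} (b : Module.Basis (Fin n) k L)

local notation "𝔘" => UniversalEnvelopingAlgebra k L

omit hp [CharP k p] in
theorem comul_mon (l : List (Fin n)) :
    Coalgebra.comul (R := k) (mon b l) =
      ((split l).map fun q => mon b q.1 ⊗ₜ[k] mon b q.2).sum := by
  induction l with
  | nil => simp [split, Algebra.TensorProduct.one_def]
  | cons j l ih =>
    rw [mon_cons, Bialgebra.comul_mul, comul_ι, ih, add_mul, ← List.sum_map_mul_left,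
      ← List.sum_map_mul_left]
    simp only [split, List.map_append, List.map_map, List.sum_append, Function.comp_def,
      Algebra.TensorProduct.tmul_mul_tmul, one_mul, mon_cons]

/-- the count vector of a list -/
def cnt (s : List (Fin n)) : Fin n → ℕ := fun j => s.count j

theorem mon_eq_TB (s : List (Fin n)) (hs : s.Pairwise (· ≤ ·)) (hg : ∀ j, s.count j < p) :
    mon b s = TB φ b (cnt s) := by
  rw [TB_apply]
  unfold Th
  have h1 : (fun i => cnt s i / p) = fun _ => 0 := by
    funext i; exact Nat.div_eq_of_lt (hg i)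
  have h2 : (fun i => cnt s i % p) = cnt s := by
    funext i; exact Nat.mod_eq_of_lt (hg i)
  rw [h1, h2, Zel_zero, one_mul]
  congr 1
  apply List.Perm.eq_of_sortedLE (List.sortedLE_iff_pairwise.mpr hs) (srt_sorted n _)
  rw [List.perm_iff_count]
  intro j
  rw [count_srt]
  rfl


/-- coordinate functionals of the basis `TB` -/
noncomputable def cc (γ : Fin n → ℕ) : 𝔘 →ₗ[k] k := (TB φ b).coord γ

theorem cc_TB (γ γ' : Fin n → ℕ) : cc φ b γ (TB φ b γ') = if γ' = γ then 1 else 0 := by
  classical
  unfold cc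
  rw [Module.Basis.coord_apply, Module.Basis.repr_self, Finsupp.single_apply]

theorem cnt_srt (γ : Fin n → ℕ) : cnt (srt n γ) = γ := by
  funext j; exact count_srt n γ j

theorem cc_mon (γ : Fin n → ℕ) (s : List (Fin n)) (hs : s.Pairwise (· ≤ ·))
    (hg : ∀ j, s.count j < p) : cc φ b γ (mon b s) = if cnt s = γ then 1 else 0 := by
  rw [mon_eq_TB φ b s hs hg, cc_TB]

theorem Jid_le_ker_cc (γ : Fin n → ℕ) (hγ : ∀ i, γ i < p) :
    (Jid φ b).restrictScalars k ≤ LinearMap.ker (cc φ b γ) := by
  refine le_trans (Jid_le φ b) ?_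
  rw [Submodule.span_le]
  rintro _ ⟨γ', hγ', rfl⟩
  rw [SetLike.mem_coe, LinearMap.mem_ker, cc_TB, if_neg]
  rintro rfl
  obtain ⟨i, hi⟩ := hγ'
  exact absurd (hγ i) (not_lt.mpr hi)

/-- coordinate functionals on the restricted enveloping algebra -/
noncomputable def cbar (γ : Fin n → ℕ) (hγ : ∀ i, γ i < p) : Hq φ b →ₗ[k] k :=
  Submodule.liftQ ((Jid φ b).restrictScalars k) (cc φ b γ) (Jid_le_ker_cc φ b γ hγ)

theorem cbar_mk (γ : Fin n → ℕ) (hγ : ∀ i, γ i < p) (v : 𝔘) :
    cbar φ b γ hγ (Ideal.Quotient.mk (Jid φ b) v) = cc φ b γ v := rfl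

theorem mk_TB_bad (γ : Fin n → ℕ) (hγ : γ ∈ Bad n p) :
    Ideal.Quotient.mk (Jid φ b) (TB φ b γ) = 0 := by
  rw [Ideal.Quotient.eq_zero_iff_mem, TB_apply]
  exact Th_mem_Jid φ b γ hγ

/-- separation of points by the good coordinates -/
theorem eq_zero_of_cbar (w : Hq φ b) (h : ∀ γ (hγ : ∀ i, γ i < p), cbar φ b γ hγ w = 0) :
    w = 0 := by
  obtain ⟨v, rfl⟩ := Ideal.Quotient.mk_surjective w
  rw [Ideal.Quotient.eq_zero_iff_mem]
  have h1 : v ∈ Submodule.span k (TB φ b '' Bad n p) := by
    rw [Module.Basis.mem_span_image]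
    intro γ hγ
    rw [Finset.mem_coe, Finsupp.mem_support_iff] at hγ
    by_contra hbad
    apply hγ
    have hgood : ∀ i, γ i < p := by
      intro i
      by_contra hi
      exact hbad ⟨i, not_lt.mp hi⟩
    exact h γ hgood
  have h2 : Submodule.span k (TB φ b '' Bad n p) ≤ (Jid φ b).restrictScalars k := by
    rw [Submodule.span_le]
    rintro _ ⟨γ, hγ, rfl⟩
    rw [TB_apply]
    exact Th_mem_Jid φ b γ hγ
  exact h2 h1

/-- the functional `(c_α ⊗ c_β) ∘ Δ` -/
noncomputable def Psi (α β : Fin n → ℕ) (hα : ∀ i, α i < p) (hβ : ∀ i, β i < p) : 𝔘 →ₗ[k] k :=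
  LinearMap.mul' k k ∘ₗ TensorProduct.map (cbar φ b α hα) (cbar φ b β hβ) ∘ₗ
    Coalgebra.comul (R := k) ∘ₗ (Ideal.Quotient.mkₐ k (Jid φ b)).toLinearMap

theorem Psi_apply_mk (α β : Fin n → ℕ) (hα : ∀ i, α i < p) (hβ : ∀ i, β i < p) (v : 𝔘) :
    Psi φ b α β hα hβ v = LinearMap.mul' k k (TensorProduct.map (cbar φ b α hα) (cbar φ b β hβ)
      (Coalgebra.comul (R := k) (Ideal.Quotient.mk (Jid φ b) v))) := rfl

theorem Psi_apply (α β : Fin n → ℕ) (hα : ∀ i, α i < p) (hβ : ∀ i, β i < p) (v : 𝔘) :
    Psi φ b α β hα hβ v = LinearMap.mul' k k (TensorProduct.map (cc φ b α) (cc φ b β)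
      (Coalgebra.comul (R := k) v)) := by
  rw [Psi_apply_mk, Bialgebra.Quotient.comul_mk, TensorProduct.map_map]
  rfl

theorem Psi_TB_bad (α β : Fin n → ℕ) (hα : ∀ i, α i < p) (hβ : ∀ i, β i < p)
    (γ : Fin n → ℕ) (hγ : γ ∈ Bad n p) : Psi φ b α β hα hβ (TB φ b γ) = 0 := by
  rw [Psi_apply_mk, mk_TB_bad φ b γ hγ, map_zero, map_zero, map_zero]

theorem Psi_TB_good (α β : Fin n → ℕ) (hα : ∀ i, α i < p) (hβ : ∀ i, β i < p)
    (γ : Fin n → ℕ) (hγ : ∀ i, γ i < p) :
    Psi φ b α β hα hβ (TB φ b γ) = ((split (srt n γ)).map fun q =>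
      (if cnt q.1 = α then (1 : k) else 0) * (if cnt q.2 = β then 1 else 0)).sum := by
  have hsrt : (srt n γ).Pairwise (· ≤ ·) := List.sortedLE_iff_pairwise.mp (srt_sorted n γ)
  have hcnt : ∀ j, (srt n γ).count j < p := fun j => by rw [count_srt]; exact hγ j
  have hTB : TB φ b γ = mon b (srt n γ) := by
    rw [mon_eq_TB φ b _ hsrt hcnt, cnt_srt]
  rw [hTB, Psi_apply, comul_mon, map_list_sum, map_list_sum, List.map_map, List.map_map]
  congr 1
  apply List.map_congr_left
  intro q hq
  obtain ⟨h1, h2⟩ := split_sublist _ q hq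
  simp only [Function.comp_apply, TensorProduct.map_tmul, LinearMap.mul'_apply]
  rw [cc_mon φ b α q.1 (hsrt.sublist h1) (fun j => lt_of_le_of_lt (h1.count_le j) (hcnt j)),
    cc_mon φ b β q.2 (hsrt.sublist h2) (fun j => lt_of_le_of_lt (h2.count_le j) (hcnt j))]


theorem cnt_eq_zero_iff (s : List (Fin n)) : cnt s = 0 ↔ s = [] := by
  constructor
  · intro h
    rw [List.eq_nil_iff_forall_not_mem]
    intro a ha
    have := congrFun h a
    have h2 : 0 < s.count a := List.count_pos_iff.mpr ha
    simp only [cnt, Pi.zero_apply] at this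
    omega
  · rintro rfl
    funext j
    simp [cnt]

theorem cnt_eq_single_iff (s : List (Fin n)) (i : Fin n) : cnt s = Pi.single i 1 ↔ s = [i] := by
  constructor
  · intro h
    have hperm : s.Perm [i] := by
      rw [List.perm_iff_count]
      intro j
      have := congrFun h j
      simp only [cnt] at this
      rw [this]
      by_cases hji : j = i
      · subst hji; simp
      · simp [Pi.single_apply, hji, List.count_singleton]
        exact fun h => hji h.symm
    exact List.perm_singleton.mp hperm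
  · rintro rfl
    funext j
    by_cases hji : j = i
    · subst hji; simp [cnt]
    · simp [cnt, Pi.single_apply, hji, List.count_singleton]
      exact fun h => hji h.symm

theorem zero_good : ∀ i : Fin n, (0 : Fin n → ℕ) i < p := fun _ => hp.out.pos

theorem Psi_zero : Psi φ b 0 0 zero_good zero_good = cc φ b 0 := by
  classical
  apply (TB φ b).ext
  intro γ
  by_cases hγ : ∀ i, γ i < p
  · rw [Psi_TB_good φ b 0 0 _ _ γ hγ, cc_TB]
    have h1 : ((split (srt n γ)).map fun q : List (Fin n) × List (Fin n) =>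
        (if cnt q.1 = 0 then (1 : k) else 0) * (if cnt q.2 = 0 then 1 else 0)) =
        (split (srt n γ)).map fun q => if q.1 = [] then (if cnt q.2 = 0 then (1 : k) else 0) else 0 := by
      apply List.map_congr_left
      intro q _
      by_cases hq : q.1 = []
      · rw [if_pos ((cnt_eq_zero_iff q.1).mpr hq), if_pos hq, one_mul]
      · rw [if_neg (fun h => hq ((cnt_eq_zero_iff q.1).mp h)), if_neg hq, zero_mul]
    rw [h1, sum_split_nil (fun t => if cnt t = 0 then (1 : k) else 0), cnt_srt]
  · have hbad : γ ∈ Bad n p := by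
      simp only [not_forall, not_lt] at hγ
      exact hγ
    rw [Psi_TB_bad φ b 0 0 _ _ γ hbad, cc_TB, if_neg]
    rintro rfl
    exact hγ zero_good

theorem Psi_single (i : Fin n) (β : Fin n → ℕ) (hβ : ∀ j, β j < p)
    (hβi : ∀ j, (β + Pi.single i 1 : Fin n → ℕ) j < p) (hi : ∀ j, (Pi.single i 1 : Fin n → ℕ) j < p) :
    Psi φ b (Pi.single i 1) β hi hβ = ((β i + 1 : ℕ) : k) • cc φ b (β + Pi.single i 1) := by
  classical
  apply (TB φ b).ext
  intro γ
  rw [LinearMap.smul_apply, cc_TB]
  by_cases hγ : ∀ j, γ j < p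
  · rw [Psi_TB_good φ b _ β _ _ γ hγ]
    have h1 : ((split (srt n γ)).map fun q : List (Fin n) × List (Fin n) =>
        (if cnt q.1 = Pi.single i 1 then (1 : k) else 0) * (if cnt q.2 = β then 1 else 0)) =
        (split (srt n γ)).map fun q =>
          if q.1 = [i] then (if cnt q.2 = β then (1 : k) else 0) else 0 := by
      apply List.map_congr_left
      intro q _
      by_cases hq : q.1 = [i]
      · rw [if_pos ((cnt_eq_single_iff q.1 i).mpr hq), if_pos hq, one_mul]
      · rw [if_neg (fun h => hq ((cnt_eq_single_iff q.1 i).mp h)), if_neg hq, zero_mul]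
    rw [h1, sum_split_single i _ (fun t => if cnt t = β then (1 : k) else 0)
      (List.sortedLE_iff_pairwise.mp (srt_sorted n γ)), count_srt]
    have hcnt : cnt ((srt n γ).erase i) = fun j => γ j - if i = j then 1 else 0 := by
      funext j
      simp only [cnt]
      rw [List.count_erase, count_srt]
      by_cases hij : i = j
      · simp [hij]
      · simp [hij]
    rw [hcnt]
    by_cases hγβ : γ = β + Pi.single i 1
    · subst hγβ
      rw [if_pos rfl, if_pos]
      · simp
      · funext j
        by_cases hij : i = j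
        · subst hij; simp
        · simp [hij, Pi.single_apply, Ne.symm hij]
    · rw [if_neg hγβ, smul_zero]
      by_cases hγi : γ i = 0
      · rw [hγi, zero_smul]
      · rw [if_neg, smul_zero]
        intro h
        apply hγβ
        funext j
        have := congrFun h j
        by_cases hij : i = j
        · subst hij
          simp only [if_true] at this
          simp only [Pi.add_apply, Pi.single_eq_same]
          omega
        · simp only [hij, if_false, Nat.sub_zero] at this
          simp [Ne.symm hij, this]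
  · have hbad : γ ∈ Bad n p := by
      simp only [not_forall, not_lt] at hγ
      exact hγ
    rw [Psi_TB_bad φ b _ β _ _ γ hbad, if_neg, smul_zero]
    rintro rfl
    exact hγ hβi


theorem one_eq_TB : (1 : 𝔘) = TB φ b 0 := by
  have h := mon_eq_TB φ b [] List.Pairwise.nil (fun j => by simpa using hp.out.pos)
  rw [mon_nil] at h
  rw [h]
  congr 1

theorem cbar_one (γ : Fin n → ℕ) (hγ : ∀ i, γ i < p) :
    cbar φ b γ hγ 1 = if (0 : Fin n → ℕ) = γ then 1 else 0 := by
  have h1 : (1 : Hq φ b) = Ideal.Quotient.mk (Jid φ b) 1 := rfl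
  rw [h1, cbar_mk, one_eq_TB φ b, cc_TB]

theorem Psi_prim (α β : Fin n → ℕ) (hα : ∀ i, α i < p) (hβ : ∀ i, β i < p) (v : 𝔘)
    (hv : IsPrim (k := k) (Ideal.Quotient.mk (Jid φ b) v)) :
    Psi φ b α β hα hβ v = cc φ b α v * (if (0 : Fin n → ℕ) = β then 1 else 0) +
      (if (0 : Fin n → ℕ) = α then 1 else 0) * cc φ b β v := by
  rw [Psi_apply_mk, hv, map_add, map_add, TensorProduct.map_tmul, TensorProduct.map_tmul,
    LinearMap.mul'_apply, LinearMap.mul'_apply, cbar_mk, cbar_mk, cbar_one, cbar_one]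

theorem single_good (i : Fin n) : ∀ j, (Pi.single i 1 : Fin n → ℕ) j < p := by
  intro j
  by_cases hji : j = i
  · subst hji; simpa using hp.out.one_lt
  · simpa [Pi.single_apply, hji] using hp.out.pos

theorem single_ne_zero (i : Fin n) : (Pi.single i 1 : Fin n → ℕ) ≠ 0 := by
  intro h
  have := congrFun h i
  simp at this

theorem prim_mem_range (ξ : Hq φ b) (hξ : IsPrim (k := k) ξ) :
    ξ ∈ LinearMap.range (ιH φ b) := by
  classical
  obtain ⟨v, rfl⟩ := Ideal.Quotient.mk_surjective ξ
  have h0 : cc φ b 0 v = 0 := by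
    have h1 := Psi_prim φ b 0 0 zero_good zero_good v hξ
    rw [Psi_zero, if_pos rfl, mul_one, one_mul] at h1
    exact left_eq_add.mp h1
  have hγ : ∀ γ : Fin n → ℕ, (∀ i, γ i < p) → γ ≠ 0 → (∀ i, γ ≠ Pi.single i 1) →
      cc φ b γ v = 0 := by
    intro γ hγ hne hns
    obtain ⟨i, hi⟩ : ∃ i, γ i ≠ 0 := by
      by_contra h
      push Not at h
      exact hne (funext h)
    have hβγ : (fun j => γ j - if i = j then 1 else 0) + Pi.single i 1 = γ := by
      funext j
      by_cases hij : i = j
      · subst hij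
        simp only [Pi.add_apply, if_true, Pi.single_eq_same]
        omega
      · simp [hij, Ne.symm hij]
    generalize hβdef : (fun j => γ j - if i = j then 1 else 0) = β at hβγ
    have hβ : ∀ j, β j < p := by
      intro j
      rw [← hβdef]
      exact lt_of_le_of_lt (Nat.sub_le _ _) (hγ j)
    have hβ0 : β ≠ 0 := by
      intro h
      apply hns i
      rw [← hβγ, h, zero_add]
    have h1 := Psi_prim φ b (Pi.single i 1) β (single_good i) hβ v hξ
    rw [Psi_single φ b i β hβ (by rw [hβγ]; exact hγ) (single_good i), if_neg (Ne.symm hβ0),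
      if_neg (Ne.symm (single_ne_zero i)), mul_zero, zero_mul, add_zero, LinearMap.smul_apply,
      smul_eq_mul, hβγ] at h1
    have hne' : ((β i + 1 : ℕ) : k) ≠ 0 := by
      rw [Ne, CharP.cast_eq_zero_iff k p]
      intro hdvd
      have h2 := Nat.le_of_dvd (Nat.succ_pos _) hdvd
      have h3 := hγ i
      have h4 := congrFun hβγ i
      simp only [Pi.add_apply, Pi.single_eq_same] at h4
      omega
    exact (mul_eq_zero.mp h1).resolve_left hne'
  refine ⟨∑ i, cc φ b (Pi.single i 1) v • b i, ?_⟩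
  rw [← sub_eq_zero]
  apply eq_zero_of_cbar φ b
  intro γ hγ'
  have hι : ιH φ b (∑ i, cc φ b (Pi.single i 1) v • b i) =
      Ideal.Quotient.mk (Jid φ b) (∑ i, cc φ b (Pi.single i 1) v • TB φ b (Pi.single i 1)) := by
    have h2 : ι k (∑ i, cc φ b (Pi.single i 1) v • b i) =
        ∑ i, cc φ b (Pi.single i 1) v • TB φ b (Pi.single i 1) := by
      rw [map_sum]
      refine Finset.sum_congr rfl fun i _ => ?_
      rw [map_smul, ι_basis_eq_TB φ b]
    rw [ιH_apply, h2]
  rw [hι, ← map_sub, cbar_mk, map_sub, map_sum]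
  simp only [map_smul, cc_TB, smul_eq_mul]
  have hinj : ∀ i j : Fin n, (Pi.single i 1 : Fin n → ℕ) = Pi.single j 1 → i = j := by
    intro i j h
    have := congrFun h i
    by_contra hij
    simp [Pi.single_apply, hij] at this
  by_cases hγs : ∃ j, γ = Pi.single j 1
  · obtain ⟨j, rfl⟩ := hγs
    rw [Finset.sum_eq_single j]
    · simp
    · intro i _ hij
      rw [if_neg, mul_zero]
      intro h
      exact hij (hinj i j h)
    · simp
  · push Not at hγs
    rw [Finset.sum_eq_zero, zero_sub, neg_eq_zero]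
    · by_cases hγ0 : γ = 0
      · subst hγ0; exact h0
      · exact hγ γ hγ' hγ0 hγs
    · intro i _
      rw [if_neg, mul_zero]
      exact fun h => hγs i h.symm

end Groth.Agent.Lib.Helper5.RHopf
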