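import Mathlib
import Groth.Prelude.Def_PLie
import Groth.Agent.Lib.Helper5.RHopf.G2

/-! Assembly: a finite-dimensional restricted Lie algebra is the Lie algebra of a height-one
infinitesimal group scheme. -/

set_option autoImplicit false
universe u v

namespace Groth.Agent.Lib.Helper5.RHopf
open scoped TensorProduct
open UniversalEnvelopingAlgebra PLie
open Groth.Agent.Lib.Helper5.RPBW

attribute [local instance 2000] LieRing.ofAssociativeRing

theorem main17338 (k : Type u) [Field k] (p : ℕ) [Fact p.Prime] [CharP k p]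
    (L : Type u) [LieRing L] [LieAlgebra k L] [Module.Finite k L] (φ : PLie.PMap k p L) :
    ∃ (A : Type u) (_ : CommRing A) (_ : HopfAlgebra k A), Module.Finite k A ∧
      (∀ f : A, Bialgebra.counitAlgHom k A f = 0 → f ^ p = 0) ∧
      ∃ e : L →ₗ[k] Derivation k A A, Function.Injective e ∧
        Set.range e = {D : Derivation k A A | CoalgebraStruct.comul (R := k) (A := A) ∘ₗ D.toLinearMap =
          LinearMap.lTensor A D.toLinearMap ∘ₗ CoalgebraStruct.comul (R := k) (A := A)} ∧
        (∀ x y : L, e ⁅x, y⁆ = ⁅e x, e y⁆) ∧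
        (∀ x : L, (e (φ x)).toLinearMap = (e x).toLinearMap ^ p) := by
  let b := Module.finBasis k L
  have hfin : Module.Finite k (DA k (Hq φ b)) :=
    Module.Finite.equiv (WithConv.linearEquiv k (Hq φ b →ₗ[k] k)).symm
  have hmain := dual_main p (ιH φ b) (ιH_prim φ b) φ (ιH_injective φ b) (ιH_lie φ b)
    (ιH_pow φ b) (ιH_gen φ b) (prim_mem_range φ b)
  exact ⟨DA k (Hq φ b), instCommRingDA, instHopfAlgebraDA, hfin, hmain⟩

end Groth.Agent.Lib.Helper5.RHopf
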